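import Mathlib

/-!
# The group `3^{1+2}_+ ⋊ SL(2,3)`

Its model, the affine symplectic ("Jacobi") group of the plane over the field with three elements.
-/

set_option autoImplicit false

namespace Cfsg.Agent.ThreeJacobi

open Matrix

local notation "K₃" => ZMod 3
local notation "SL₃" => Matrix.SpecialLinearGroup (Fin 2) (ZMod 3)

/-- The alternating form of the plane. -/
def om (v w : Fin 2 → K₃) : K₃ := v 0 * w 1 - w 0 * v 1

/-- The extraspecial group of order `27` and exponent `3`. -/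
@[ext]
structure Hs where
  /-- the image in the plane -/
  v : Fin 2 → K₃
  /-- the central coordinate -/
  z : K₃
deriving DecidableEq

/-- `Hs` as a product. -/
def hsEquiv : Hs ≃ (Fin 2 → K₃) × K₃ where
  toFun a := (a.v, a.z)
  invFun a := ⟨a.1, a.2⟩
  left_inv _ := rfl
  right_inv _ := rfl

instance : Fintype Hs := Fintype.ofEquiv _ hsEquiv.symm

instance : One Hs := ⟨⟨0, 0⟩⟩
instance : Mul Hs := ⟨fun a b => ⟨a.v + b.v, a.z + b.z - om a.v b.v⟩⟩
instance : Inv Hs := ⟨fun a => ⟨-a.v, -a.z⟩⟩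

theorem one_def : (1 : Hs) = ⟨0, 0⟩ := rfl
theorem mul_def (a b : Hs) : a * b = ⟨a.v + b.v, a.z + b.z - om a.v b.v⟩ := rfl
theorem inv_def (a : Hs) : a⁻¹ = ⟨-a.v, -a.z⟩ := rfl

instance : Group Hs where
  mul_assoc a b c := by
    ext <;> simp [mul_def, om] <;> ring
  one_mul a := by ext <;> simp [mul_def, one_def, om]
  mul_one a := by ext <;> simp [mul_def, one_def, om]
  inv_mul_cancel a := by ext <;> simp [mul_def, inv_def, one_def, om] <;> ring

theorem card_Hs : Nat.card Hs = 27 := by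
  rw [Nat.card_congr hsEquiv, Nat.card_prod, Nat.card_fun, Nat.card_fin, Nat.card_zmod]
  norm_num

theorem om_mulVec (A : Matrix (Fin 2) (Fin 2) K₃) (v w : Fin 2 → K₃) :
    om (A *ᵥ v) (A *ᵥ w) = A.det * om v w := by
  simp [om, Matrix.mulVec, dotProduct, Fin.sum_univ_two, Matrix.det_fin_two]
  ring

/-- The action on the plane. -/
def mv (A : SL₃) (v : Fin 2 → K₃) : Fin 2 → K₃ := (A : Matrix (Fin 2) (Fin 2) K₃) *ᵥ v

theorem mv_mul (A B : SL₃) (v : Fin 2 → K₃) : mv (A * B) v = mv A (mv B v) :=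
  (Matrix.mulVec_mulVec v _ _).symm

theorem mv_one (v : Fin 2 → K₃) : mv 1 v = v := Matrix.one_mulVec v

theorem mv_add (A : SL₃) (v w : Fin 2 → K₃) : mv A (v + w) = mv A v + mv A w :=
  Matrix.mulVec_add _ _ _

theorem om_mv (A : SL₃) (v w : Fin 2 → K₃) : om (mv A v) (mv A w) = om v w := by
  rw [mv, mv, om_mulVec, A.2, one_mul]

/-- The action of `SL₂` on `Hs`. -/
def actEquiv (A : SL₃) : MulAut Hs where
  toFun a := ⟨mv A a.v, a.z⟩
  invFun a := ⟨mv A⁻¹ a.v, a.z⟩
  left_inv a := by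
    ext1
    · exact (mv_mul _ _ _).symm.trans (by rw [inv_mul_cancel, mv_one])
    · rfl
  right_inv a := by
    ext1
    · exact (mv_mul _ _ _).symm.trans (by rw [mul_inv_cancel, mv_one])
    · rfl
  map_mul' a b := by
    ext1
    · exact mv_add A a.v b.v
    · show a.z + b.z - om a.v b.v = a.z + b.z - om (mv A a.v) (mv A b.v)
      rw [om_mv]

theorem actEquiv_apply (A : SL₃) (a : Hs) : actEquiv A a = ⟨mv A a.v, a.z⟩ := rfl

/-- The action of `SL₂` on `Hs` as a homomorphism. -/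
def act : SL₃ →* MulAut Hs where
  toFun := actEquiv
  map_one' := by
    apply MulEquiv.ext
    intro a
    rw [actEquiv_apply, mv_one]
    rfl
  map_mul' A B := by
    apply MulEquiv.ext
    intro a
    rw [MulAut.mul_apply, actEquiv_apply, actEquiv_apply, actEquiv_apply, mv_mul]

theorem act_apply (A : SL₃) (a : Hs) : act A a = ⟨mv A a.v, a.z⟩ := rfl

/-- The model group. -/
abbrev J : Type := Hs ⋊[act] SL₃

theorem card_sl : Nat.card SL₃ = 24 := by
  rw [Nat.card_eq_fintype_card]; decide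

theorem card_J : Nat.card J = 648 := by
  rw [SemidirectProduct.card, card_Hs, card_sl]

/-- The upper transvection. -/
def up (a : K₃) : SL₃ := ⟨!![1, a; 0, 1], by simp [Matrix.det_fin_two]⟩

/-- The lower transvection. -/
def lo (a : K₃) : SL₃ := ⟨!![1, 0; a, 1], by simp [Matrix.det_fin_two]⟩

theorem exists_word (A : SL₃) : ∃ a b c d : K₃, A = up a * lo b * up c * lo d := by
  revert A; decide

theorem pow_three_up_lo (a : K₃) : up a ^ 3 = 1 ∧ lo a ^ 3 = 1 := by
  revert a; decide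

theorem normal_cases (A : SL₃) :
    A = 1 ∨ A = -1 ∨ A ^ 2 = -1 ∨ A ^ 3 = -1 ∨ ∃ B : SL₃, (B * A * B⁻¹ * A⁻¹) ^ 2 = -1 := by
  revert A; decide

end Cfsg.Agent.ThreeJacobi
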