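import Cfsg.Agent.Lib.ThreeJacobi.Basic
import Cfsg.Prelude.Def_Transfer
import Cfsg.Prelude.Def_Solvable

/-!
# Recognition of `3^{1+2}_+ ⋊ SL(2,3)`
-/

set_option autoImplicit false
set_option maxHeartbeats 800000

namespace Cfsg.Agent.ThreeJacobi

open Subgroup
open scoped commutatorElement

local notation "SL₃" => Matrix.SpecialLinearGroup (Fin 2) (ZMod 3)

theorem pow_nine (a : ZMod 3) : a ^ 9 = a := by revert a; decide

theorem val_mul_two (j k : ZMod 3) : 2 * (j.val * k.val) % 3 = (-(j * k)).val := by revert j k; decide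

theorem eq_zero_of_eq_neg {z : ZMod 3} (h : z = -z) : z = 0 := by revert h z; decide

theorem three_eq : (3 : ZMod 3) = 0 := rfl

theorem comm_z (p q r u z y : ZMod 3) :
    z + y - (p * u - r * q) + (r * q - p * u - (y + z)) -
      ((p + r) * (-q + -u) - (-p + -r) * (q + u)) = p * u - r * q := by
  revert p q r u z y; decide

theorem eq_one_of_sq_cube {G : Type*} [Group G] {z : G} (h2 : z ^ 2 = 1) (h3 : z ^ 3 = 1) : z = 1 := by
  rwa [pow_succ, h2, one_mul] at h3

theorem recognize {X : Type*} [Group X] [Finite X] (R : Subgroup X) [R.Normal]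
    (hR : Cfsg.IsExtraspecial 3 R) (hR27 : Nat.card R = 27) (hexp : ∀ r ∈ R, r ^ 3 = 1)
    (π : X →* SL₃) (hπ : Function.Surjective π) (hker : ∀ x, π x = 1 ↔ x ∈ R)
    (hO2 : ∀ t : X, t * t = 1 → (∀ x : X, x * t = t * x) → t = 1)
    (hE : ∃ E : Subgroup X, IsMulCommutative E ∧ (∀ a ∈ E, a ^ 3 = 1) ∧ Nat.card E = 27) :
    Nonempty (J ≃* X) := by
  classical
  haveI : Fact (Nat.Prime 3) := ⟨Nat.prime_three⟩
  -- the centre `Z` of `R`
  set Z : Subgroup X := (center R).map R.subtype with hZdef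
  have hZR : Z ≤ R := Subgroup.map_subtype_le _
  have hZ3 : Nat.card Z = 3 := by
    rw [hZdef, Subgroup.card_map_of_injective R.subtype_injective]; exact hR.2
  have hZc : ∀ z ∈ Z, ∀ r ∈ R, r * z = z * r := by
    rintro _ ⟨z, hz, rfl⟩ r hr
    exact congrArg Subtype.val (Subgroup.mem_center_iff.1 hz ⟨r, hr⟩)
  have hZmem : ∀ z ∈ R, (∀ r ∈ R, r * z = z * r) → z ∈ Z := fun z hz h =>
    ⟨⟨z, hz⟩, Subgroup.mem_center_iff.2 fun r => Subtype.ext (h r r.2), rfl⟩
  have hcomm : ∀ a ∈ R, ∀ b ∈ R, a * b * a⁻¹ * b⁻¹ ∈ Z := by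
    intro a ha b hb
    refine ⟨⁅(⟨a, ha⟩ : R), (⟨b, hb⟩ : R)⁆, ?_, rfl⟩
    show _ ∈ center R
    rw [← hR.1.2.2, commutator_eq_closure]
    exact Subgroup.subset_closure (commutator_mem_commutatorSet _ _)
  have hXn : ∀ x : X, ∀ z ∈ Z, x * z * x⁻¹ ∈ Z := by
    intro x z hz
    refine hZmem _ ((inferInstance : R.Normal).conj_mem z (hZR hz) x) fun r hr => ?_
    have h := hZc z hz (x⁻¹ * r * x) (by simpa using (inferInstance : R.Normal).conj_mem r hr x⁻¹)
    calc r * (x * z * x⁻¹) = x * (x⁻¹ * r * x * z) * x⁻¹ := by group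
      _ = x * (z * (x⁻¹ * r * x)) * x⁻¹ := by rw [h]
      _ = x * z * x⁻¹ * r := by group
  -- `X` is generated by `R` and elements of odd order
  have hgen : ∀ H : Subgroup X, R ≤ H → (∀ x : X, x ^ 9 = 1 → x ∈ H) → H = ⊤ := by
    intro H hRH h9
    rw [eq_top_iff]
    rintro x -
    have hlift : ∀ g : SL₃, g ^ 3 = 1 → g ∈ H.map π := fun g hg => by
      obtain ⟨y, rfl⟩ := hπ g
      refine ⟨y, h9 y ?_, rfl⟩
      have : y ^ 3 ∈ R := (hker _).1 (by rw [map_pow]; exact hg)
      rw [show 9 = 3 * 3 from rfl, pow_mul]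
      exact hexp _ this
    have hx : π x ∈ H.map π := by
      obtain ⟨a, b, c, d, e⟩ := exists_word (π x)
      rw [e]
      exact mul_mem (mul_mem (mul_mem (hlift _ (pow_three_up_lo a).1) (hlift _ (pow_three_up_lo b).2))
        (hlift _ (pow_three_up_lo c).1)) (hlift _ (pow_three_up_lo d).2)
    obtain ⟨y, hy, e⟩ := hx
    have : y⁻¹ * x ∈ R := (hker _).1 (by rw [map_mul, map_inv, e, inv_mul_cancel])
    simpa using mul_mem hy (hRH this)
  -- `Z` is central
  have hZX : ∀ x : X, ∀ z ∈ Z, x * z * x⁻¹ = z := by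
    let H : Subgroup X :=
      { carrier := {x | ∀ z ∈ Z, x * z * x⁻¹ = z}
        one_mem' := fun z _ => by group
        mul_mem' := fun {a b} ha hb z hz => by
          rw [show a * b * z * (a * b)⁻¹ = a * (b * z * b⁻¹) * a⁻¹ by group, hb z hz, ha z hz]
        inv_mem' := fun {a} ha z hz => by
          conv_lhs => rw [← ha z hz]
          group }
    have hH : H = ⊤ := hgen H (fun r hr z hz => by rw [hZc z hz r hr, mul_inv_cancel_right])
      (fun x hx z hz => by
      -- conjugation by `x` has odd order on a group of order three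
      obtain ⟨g, hg⟩ := (isCyclic_of_prime_card (α := Z) hZ3).exists_generator
      obtain ⟨i, hi⟩ := Subgroup.mem_zpowers_iff.1 (hg ⟨_, hXn x g g.2⟩)
      have hi' : x * (g : X) * x⁻¹ = (g : X) ^ i := (congrArg Subtype.val hi).symm
      have hit : ∀ k : ℕ, x ^ k * (g : X) * (x ^ k)⁻¹ = (g : X) ^ (i ^ k) := by
        intro k
        induction k with
        | zero => simp
        | succ k ih =>
          rw [show x ^ (k + 1) * (g : X) * (x ^ (k + 1))⁻¹ = x ^ k * (x * g * x⁻¹) * (x ^ k)⁻¹ by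
            rw [pow_succ]; group, hi', ← conj_zpow, ih, ← zpow_mul, pow_succ]
      have h9 := hit 9
      rw [hx, one_mul, inv_one, mul_one] at h9
      have hog : orderOf (g : X) = 3 := by
        rw [Subgroup.orderOf_coe, orderOf_eq_card_of_forall_mem_zpowers hg, hZ3]
      have h0 : (g : X) ^ (i ^ 9 - 1) = 1 := by rw [zpow_sub, zpow_one, ← h9, mul_inv_cancel]
      have hd := orderOf_dvd_iff_zpow_eq_one.2 h0
      rw [hog] at hd
      have hd' : (3 : ℤ) ∣ i - 1 := by
        have h := (ZMod.intCast_zmod_eq_zero_iff_dvd _ 3).2 hd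
        push_cast at h
        rw [pow_nine] at h
        exact (ZMod.intCast_zmod_eq_zero_iff_dvd _ 3).1 (by push_cast; exact h)
      have hgi : x * (g : X) * x⁻¹ = g := by
        rw [hi']
        have : (g : X) ^ (i - 1) = 1 := orderOf_dvd_iff_zpow_eq_one.1 (by rw [hog]; exact hd')
        rw [zpow_sub, zpow_one, mul_inv_eq_one] at this
        exact this
      obtain ⟨j, hj⟩ := Subgroup.mem_zpowers_iff.1 (hg ⟨z, hz⟩)
      have hj' : (g : X) ^ j = z := congrArg Subtype.val hj
      rw [← hj', ← conj_zpow, hgi])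
    intro x
    exact (hH.ge (Subgroup.mem_top x) : x ∈ H)
  have hZcom : ∀ (x : X), ∀ z ∈ Z, x * z = z * x := fun x z hz => mul_inv_eq_iff_eq_mul.1 (hZX x z hz)
  have hsmall : ∀ r ∈ R, r ^ 2 = 1 → r = 1 := fun r hr h => eq_one_of_sq_cube h (hexp r hr)
  -- an involution `t` over `-1`
  obtain ⟨t, ht2, htπ⟩ : ∃ t : X, t * t = 1 ∧ π t = -1 := by
    obtain ⟨x, hx⟩ := hπ (-1)
    refine ⟨x ^ 3, ?_, by rw [map_pow, hx]; decide⟩
    have : x ^ 2 ∈ R := (hker _).1 (by rw [map_pow, hx]; decide)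
    rw [← pow_add, show 3 + 3 = 2 * 3 from rfl, pow_mul]
    exact hexp _ this
  have hneg : (-1 : SL₃) ≠ 1 := by decide
  have htR : t ∉ R := fun h => hneg (htπ.symm.trans ((hker t).2 h))
  have htinv : t⁻¹ = t := inv_eq_of_mul_eq_one_right ht2
  -- the centraliser of `R`
  have hCR : ∀ x : X, (∀ r ∈ R, r * x = x * r) → x ∈ Z := by
    let N : Subgroup X := centralizer (R : Set X)
    haveI hN : N.Normal := by
      refine ⟨fun n hn g => Subgroup.mem_centralizer_iff.2 fun r hr => ?_⟩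
      have h := Subgroup.mem_centralizer_iff.1 hn (g⁻¹ * r * g)
        (by simpa using (inferInstance : R.Normal).conj_mem r hr g⁻¹)
      calc r * (g * n * g⁻¹) = g * (g⁻¹ * r * g * n) * g⁻¹ := by group
        _ = g * (n * (g⁻¹ * r * g)) * g⁻¹ := by rw [h]
        _ = g * n * g⁻¹ * r := by group
    have key : ∀ n ∈ N, π n ≠ -1 := by
      intro n hn hn1
      have hn2 : n ^ 2 ∈ R := (hker _).1 (by rw [map_pow, hn1]; decide)
      set s := n ^ 3 with hs
      have hsN : s ∈ N := pow_mem hn 3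
      have hs2 : s * s = 1 := by
        rw [hs, ← pow_add, show 3 + 3 = 2 * 3 from rfl, pow_mul]; exact hexp _ hn2
      have hsπ : π s = -1 := by rw [hs, map_pow, hn1]; decide
      have hscen : ∀ x : X, x * s = s * x := by
        intro x
        have hsinv : s⁻¹ = s := inv_eq_of_mul_eq_one_right hs2
        set r := s * (x * s * x⁻¹) with hr
        have hrR : r ∈ R := (hker _).1 (by
          rw [hr, map_mul, map_mul, map_mul, map_inv, hsπ]; simp)
        have hrN : r ∈ N := mul_mem hsN (hN.conj_mem s hsN x)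
        have hsr : r * s = s * r := Subgroup.mem_centralizer_iff.1 hsN r hrR
        have h1 : r ^ 2 = 1 := by
          have : (s * r) * (s * r) = 1 := by
            rw [hr, show s * (s * (x * s * x⁻¹)) = (s * s) * (x * s * x⁻¹) by group, hs2, one_mul,
              show x * s * x⁻¹ * (x * s * x⁻¹) = x * (s * s) * x⁻¹ by group, hs2, mul_one, mul_inv_cancel]
          rw [mul_assoc, ← mul_assoc r, hsr, mul_assoc, ← mul_assoc s, hs2, one_mul] at this
          rw [pow_two]; exact this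
        have := hsmall r hrR h1
        rw [hr, mul_eq_one_iff_eq_inv'] at this
        have h2 : x * s * x⁻¹ = s := this.trans hsinv
        exact mul_inv_eq_iff_eq_mul.1 h2
      have := hO2 s hs2 hscen
      rw [this, map_one] at hsπ
      exact hneg hsπ.symm
    intro x hx
    have hxN : x ∈ N := Subgroup.mem_centralizer_iff.2 fun r hr => hx r hr
    by_cases hxR : x ∈ R
    · exact hZmem x hxR hx
    exfalso
    rcases normal_cases (π x) with h | h | h | h | ⟨B, hB⟩
    · exact hxR ((hker x).1 h)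
    · exact key x hxN h
    · exact key _ (pow_mem hxN 2) (by rw [map_pow]; exact h)
    · exact key _ (pow_mem hxN 3) (by rw [map_pow]; exact h)
    · obtain ⟨b, rfl⟩ := hπ B
      exact key _ (pow_mem (mul_mem (hN.conj_mem x hxN b) (inv_mem hxN)) 2)
        (by rw [map_pow, map_mul, map_mul, map_mul, map_inv, map_inv]; exact hB)
  -- `t` inverts `R / Z` and fixes only `Z`
  have htn : ∀ r ∈ R, t * r * t ∈ R := fun r hr => by
    have := (inferInstance : R.Normal).conj_mem r hr t
    rwa [htinv] at this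
  have hfix : ∀ r ∈ R, t * r * t = r → r ∈ Z := by
    let L : Subgroup X :=
      { carrier := {r | r ∈ R ∧ t * r * t = r}
        one_mem' := ⟨one_mem _, by rw [mul_one, ht2]⟩
        mul_mem' := fun {a b} ha hb => ⟨mul_mem ha.1 hb.1, by
          calc t * (a * b) * t = t * a * (t * t) * b * t := by rw [ht2]; group
            _ = (t * a * t) * (t * b * t) := by group
            _ = a * b := by rw [ha.2, hb.2]⟩
        inv_mem' := fun {a} ha => ⟨inv_mem ha.1, by
          calc t * a⁻¹ * t = (t⁻¹ * a * t⁻¹)⁻¹ := by group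
            _ = a⁻¹ := by rw [htinv, ha.2]⟩ }
    have hLR : L ≤ R := fun r hr => hr.1
    have hZL : Z ≤ L := fun z hz => ⟨hZR hz, by rw [hZcom t z hz, mul_assoc, ht2, mul_one]⟩
    intro r hr hrt
    by_contra hrZ
    have hrL : r ∈ L := ⟨hr, hrt⟩
    have h1 := Subgroup.card_dvd_of_le hLR
    rw [hR27, show 27 = 3 ^ 3 from rfl] at h1
    obtain ⟨k, hk, hLk⟩ := (Nat.dvd_prime_pow Nat.prime_three).1 h1
    have hk2 : 2 ≤ k := by
      by_contra hlt
      refine hrZ ((Subgroup.eq_of_le_of_card_ge hZL ?_).ge hrL)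
      rw [hLk, hZ3]
      calc 3 ^ k ≤ 3 ^ 1 := Nat.pow_le_pow_right (by norm_num) (by omega)
        _ = 3 := pow_one 3
    by_cases hk3 : k = 3
    · have hLe : L = R := Subgroup.eq_of_le_of_card_ge hLR (by rw [hLk, hk3, hR27]; norm_num)
      refine htR (hZR (hCR t fun s hs => ?_))
      have := (hLe.ge hs).2
      calc s * t = t * s * t * t := by rw [this]
        _ = t * s := by rw [mul_assoc, ht2, mul_one]
    have hk' : k = 2 := by omega
    subst hk'
    -- `R / L` has order three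
    have hidx : L.relIndex R = 3 := by
      have := Subgroup.card_mul_index (L.subgroupOf R)
      rw [Nat.card_congr (Subgroup.subgroupOfEquivOfLe hLR).toEquiv, hLk, hR27] at this
      change 3 ^ 2 * L.relIndex R = 27 at this
      omega
    haveI hLn : (L.subgroupOf R).Normal := by
      refine ⟨fun l hl a => ?_⟩
      rw [Subgroup.mem_subgroupOf] at hl ⊢
      show (a : X) * l * (a : X)⁻¹ ∈ L
      have := mul_mem (hZL (hcomm a a.2 l (hLR hl))) hl
      simpa using this
    -- every element of `X` normalising `L` acts trivially or by inversion; those acting trivially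
    let H : Subgroup X :=
      { carrier := {x | (∀ l ∈ L, x * l * x⁻¹ ∈ L) ∧ (∀ l ∈ L, x⁻¹ * l * x ∈ L) ∧
          ∀ s ∈ R, s⁻¹ * (x * s * x⁻¹) ∈ L}
        one_mem' := ⟨fun l hl => by simpa using hl, fun l hl => by simpa using hl,
          fun s _ => by simp⟩
        mul_mem' := fun {a b} ha hb => ⟨fun l hl => by
            have := ha.1 _ (hb.1 l hl)
            simpa [mul_assoc] using this, fun l hl => by
            have := hb.2.1 _ (ha.2.1 l hl)
            simpa [mul_assoc] using this, fun s hs => by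
            have hsR : b * s * b⁻¹ ∈ R := (inferInstance : R.Normal).conj_mem s hs b
            have := mul_mem (hb.2.2 s hs) (ha.2.2 _ hsR)
            simpa [mul_assoc] using this⟩
        inv_mem' := fun {a} ha => ⟨fun l hl => by simpa using ha.2.1 l hl,
          fun l hl => by simpa using ha.1 l hl, fun s hs => by
            have hsR : a⁻¹ * s * a⁻¹⁻¹ ∈ R := (inferInstance : R.Normal).conj_mem s hs a⁻¹
            have := inv_mem (ha.2.2 _ hsR)
            simpa [mul_assoc] using this⟩ }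
    -- the centraliser of `t` covers `X / R`
    have hcov : ∀ x : X, ∃ a ∈ R, t * (a * x) * t = a * x := by
      intro x
      set s := t * (x * t * x⁻¹) with hs
      have hsR : s ∈ R := (hker _).1 (by
        rw [hs, map_mul, map_mul, map_mul, map_inv, htπ]; simp)
      have hts : t * s * t = s⁻¹ := by
        rw [hs]
        calc t * (t * (x * t * x⁻¹)) * t = (t * t) * (x * t * x⁻¹) * t := by group
          _ = x * t⁻¹ * x⁻¹ * t⁻¹ := by rw [ht2, one_mul, htinv]
          _ = (t * (x * t * x⁻¹))⁻¹ := by group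
      refine ⟨s⁻¹, inv_mem hsR, ?_⟩
      have hs3 : s * s = s⁻¹ := eq_inv_of_mul_eq_one_left (by rw [← pow_two, ← pow_succ]; exact hexp s hsR)
      calc t * (s⁻¹ * x) * t = (t * s⁻¹ * t⁻¹) * (t * x * t) := by group
        _ = s * (t * x * t) := by
          rw [show t * s⁻¹ * t⁻¹ = (t * s * t⁻¹)⁻¹ by group, htinv, hts, inv_inv]
        _ = s * (s * x) := by rw [hs]; group
        _ = s⁻¹ * x := by rw [← mul_assoc, hs3]
    have hnorm : ∀ x : X, ∀ l ∈ L, x * l * x⁻¹ ∈ L := by
      intro x l hl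
      obtain ⟨a, ha, hax⟩ := hcov x
      have h1 : a * x * l * (a * x)⁻¹ ∈ L := by
        refine ⟨(inferInstance : R.Normal).conj_mem l hl.1 _, ?_⟩
        have hax' : t * (a * x)⁻¹ * t = (a * x)⁻¹ := by
          calc t * (a * x)⁻¹ * t = (t⁻¹ * (a * x) * t⁻¹)⁻¹ := by group
            _ = (a * x)⁻¹ := by rw [htinv, hax]
        calc t * (a * x * l * (a * x)⁻¹) * t
            = (t * (a * x) * t) * (t⁻¹ * l * t⁻¹) * (t * (a * x)⁻¹ * t) := by group
          _ = a * x * l * (a * x)⁻¹ := by rw [hax, hax', htinv, hl.2]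
      have h2 := mul_mem (hZL (hcomm a⁻¹ (inv_mem ha) _ (hLR h1))) h1
      simpa [mul_assoc] using h2
    have hH : H = ⊤ := hgen H (fun a ha => ⟨fun l hl => hnorm a l hl,
        fun l hl => by simpa using hnorm a⁻¹ l hl, fun s hs =>
          hZL (by simpa [mul_assoc] using hcomm s⁻¹ (inv_mem hs) a ha)⟩)
      fun x hx => ⟨fun l hl => hnorm x l hl, fun l hl => by simpa using hnorm x⁻¹ l hl, fun s hs => by
        -- the quotient `R / L` has order three
        haveI : Fact (Nat.card (R ⧸ L.subgroupOf R) = 3) := ⟨hidx⟩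
        let q := QuotientGroup.mk' (L.subgroupOf R)
        let c : MulAut R := MulAut.conjNormal x
        have hc : (L.subgroupOf R).map c.toMonoidHom = L.subgroupOf R := by
          refine le_antisymm ?_ fun l hl => ?_
          · rintro _ ⟨l, hl, rfl⟩
            exact hnorm x l hl
          · exact ⟨c.symm l, by simpa [c, Subgroup.mem_subgroupOf] using hnorm x⁻¹ l hl, c.apply_symm_apply l⟩
        let cq := QuotientGroup.congr (L.subgroupOf R) (L.subgroupOf R) c hc
        obtain ⟨g, hg⟩ := (isCyclic_of_prime_card (α := R ⧸ L.subgroupOf R) hidx).exists_generator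
        obtain ⟨i, hi⟩ := Subgroup.mem_zpowers_iff.1 (hg (cq g))
        have hit : ∀ k : ℕ, (cq ^ k) g = g ^ (i ^ k) := by
          intro k
          induction k with
          | zero => simp
          | succ k ih => rw [pow_succ', MulAut.mul_apply, ih, map_zpow, ← hi, ← zpow_mul, mul_comm, pow_succ]
        have hc9 : (cq ^ 9) g = g := by
          obtain ⟨g0, rfl⟩ := QuotientGroup.mk_surjective g
          have : ∀ k : ℕ, (cq ^ k) (g0 : R ⧸ L.subgroupOf R) = ((c ^ k) g0 : R) := by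
            intro k
            induction k with
            | zero => simp
            | succ k ih => rw [pow_succ', MulAut.mul_apply, ih, pow_succ', MulAut.mul_apply]; rfl
          rw [this, ← map_pow, hx, map_one]
          rfl
        have hog : orderOf g = 3 := by rw [orderOf_eq_card_of_forall_mem_zpowers hg]; exact hidx
        have h0 : g ^ (i ^ 9 - 1) = 1 := by rw [zpow_sub, zpow_one, ← hit, hc9, mul_inv_cancel]
        have hd := orderOf_dvd_iff_zpow_eq_one.2 h0
        rw [hog] at hd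
        have hd' : (3 : ℤ) ∣ i - 1 := by
          have h := (ZMod.intCast_zmod_eq_zero_iff_dvd _ 3).2 hd
          push_cast at h
          rw [pow_nine] at h
          exact (ZMod.intCast_zmod_eq_zero_iff_dvd _ 3).1 (by push_cast; exact h)
        have hgi : cq g = g := by
          rw [← hi]
          have : g ^ (i - 1) = 1 := orderOf_dvd_iff_zpow_eq_one.1 (by rw [hog]; exact hd')
          rw [zpow_sub, zpow_one, mul_inv_eq_one] at this
          exact this
        obtain ⟨j, hj⟩ := Subgroup.mem_zpowers_iff.1 (hg ((⟨s, hs⟩ : R) : R ⧸ L.subgroupOf R))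
        have : ((c ⟨s, hs⟩ : R) : R ⧸ L.subgroupOf R) = ((⟨s, hs⟩ : R) : R ⧸ L.subgroupOf R) := by
          refine (QuotientGroup.congr_mk _ _ c hc _).symm.trans ?_
          rw [← hj, map_zpow, hgi]
        exact Subgroup.mem_subgroupOf.1 (QuotientGroup.eq.1 this.symm)⟩
    -- so `t` stabilises the chain `1 ≤ L ≤ R`
    refine htR (hZR (hCR t fun s hs => ?_))
    have hl := ((hH.ge (Subgroup.mem_top t) : t ∈ H)).2.2 s hs
    rw [htinv] at hl
    have h1 : s⁻¹ * (t * s * t) = 1 := by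
      refine hsmall _ hl.1 ?_
      have e := hl.2
      have : t * (s⁻¹ * (t * s * t)) * t = (t * s * t)⁻¹ * s := by
        calc _ = t * s⁻¹ * t * s * (t * t) := by group
          _ = (t⁻¹ * s * t⁻¹)⁻¹ * s := by rw [ht2, mul_one]; group
          _ = _ := by rw [htinv]
      rw [this] at e
      rw [pow_two]
      nth_rewrite 2 [← e]
      group
    rw [inv_mul_eq_one] at h1
    calc s * t = t * s * t * t := by rw [← h1]
      _ = t * s := by rw [mul_assoc, ht2, mul_one]
  have hinvert : ∀ r ∈ R, r * (t * r * t) ∈ Z := by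
    intro r hr
    refine hfix _ (mul_mem hr (htn r hr)) ?_
    -- `t` carries `r·tr` to `tr·r`, and these differ by a central element fixed by `t`
    have hz := hcomm (t * r * t) (htn r hr) r hr
    have e1 : t * (r * (t * r * t)) * t = (t * r * t) * r * ((t * r * t)⁻¹ * (t * r * t)) := by
      rw [inv_mul_cancel, mul_one]
      calc _ = t * r * t * r * (t * t) := by group
        _ = _ := by rw [ht2, mul_one]
    rw [inv_mul_cancel, mul_one] at e1
    set z := t * r * t * r * (t * r * t)⁻¹ * r⁻¹ with hzdef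
    have e2 : t * (r * (t * r * t)) * t = z * (r * (t * r * t)) := by rw [e1, hzdef]; group
    -- applying `t` twice
    have e3 : t * (t * (r * (t * r * t)) * t) * t = r * (t * r * t) := by
      calc _ = (t * t) * (r * (t * r * t)) * (t * t) := by group
        _ = _ := by rw [ht2, one_mul, mul_one]
    rw [e2] at e3
    have e4 : t * (z * (r * (t * r * t))) * t = z * (z * (r * (t * r * t))) := by
      rw [← mul_assoc t z, hZcom t z hz, mul_assoc z, mul_assoc z, e2]
    rw [e4, ← mul_assoc, mul_eq_right] at e3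
    rw [e2, hsmall z (hZR hz) (by rw [pow_two]; exact e3), one_mul]
  have hRm : ∀ r ∈ R, ∃ r' ∈ R, t * r' * t = r'⁻¹ ∧ r⁻¹ * r' ∈ Z := by
    intro r hr
    set z := r * (t * r * t) with hz
    have hzZ := hinvert r hr
    refine ⟨r * z, mul_mem hr (hZR hzZ), ?_, by rw [inv_mul_cancel_left]; exact hzZ⟩
    have hz3 : z * z = z⁻¹ :=
      eq_inv_of_mul_eq_one_left (by rw [← pow_two, ← pow_succ]; exact hexp z (hZR hzZ))
    calc t * (r * z) * t = (t * r * t) * z := by
          rw [mul_assoc, mul_assoc r z t, ← hZcom t z hzZ]; group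
      _ = r⁻¹ * (r * (t * r * t)) * z := by group
      _ = r⁻¹ * (z * z) := by rw [← hz, mul_assoc]
      _ = r⁻¹ * z⁻¹ := by rw [hz3]
      _ = (r * z)⁻¹ := (hZcom r⁻¹ z⁻¹ (inv_mem hzZ)).trans (mul_inv_rev r z).symm
  have htfZ : ∀ z ∈ Z, t * z * t = z := fun z hz => by rw [hZcom t z hz, mul_assoc, ht2, mul_one]
  -- two inverted generators
  obtain ⟨r1, hr1, r2, hr2, hne⟩ : ∃ r1 ∈ R, ∃ r2 ∈ R, r1 * r2 ≠ r2 * r1 := by
    by_contra hcon
    push Not at hcon
    have : R ≤ Z := fun r hr => hZmem r hr fun s hs => hcon s hs r hr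
    have := Subgroup.card_le_of_le this
    omega
  obtain ⟨a1, ha1, ht1, hz1⟩ := hRm r1 hr1
  obtain ⟨a2, ha2, ht2', hz2⟩ := hRm r2 hr2
  have hne' : a1 * a2 ≠ a2 * a1 := by
    intro h
    apply hne
    obtain ⟨z, hz, rfl⟩ : ∃ z ∈ Z, a1 * z = r1 :=
      ⟨(r1⁻¹ * a1)⁻¹, inv_mem hz1, by group⟩
    obtain ⟨w, hw, rfl⟩ : ∃ w ∈ Z, a2 * w = r2 :=
      ⟨(r2⁻¹ * a2)⁻¹, inv_mem hz2, by group⟩
    calc a1 * z * (a2 * w) = a1 * a2 * (z * w) := by
          rw [mul_assoc, ← mul_assoc z, ← hZcom a2 z hz]; group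
      _ = a2 * a1 * (w * z) := by rw [h, hZcom z w hw]
      _ = a2 * w * (a1 * z) := by rw [mul_assoc a2 w, ← mul_assoc w, ← hZcom a1 w hw]; group
  set ζ := a1 * a2 * a1⁻¹ * a2⁻¹ with hζ
  have hζZ : ζ ∈ Z := hcomm a1 ha1 a2 ha2
  have hζ1 : ζ ≠ 1 := fun h => hne' (by
    rw [hζ, mul_inv_eq_one, mul_inv_eq_iff_eq_mul] at h; exact h)
  -- exponentiation modulo three
  let pw : X → ZMod 3 → X := fun a i => a ^ i.val
  have pw_add : ∀ a ∈ R, ∀ i j, pw a (i + j) = pw a i * pw a j := fun a ha i j => by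
    simp only [pw]
    rw [← pow_add, ZMod.val_add]
    exact (pow_eq_pow_mod _ (hexp a ha)).symm
  have pw_mem : ∀ a ∈ R, ∀ i, pw a i ∈ R := fun a ha i => pow_mem ha _
  have pwZ : ∀ i, pw ζ i ∈ Z := fun i => pow_mem hζZ _
  have pw_swap : ∀ j k, pw a2 j * pw a1 k = pw a1 k * pw a2 j * pw ζ (-(j * k)) := by
    have h21 : a2 * a1 = a1 * a2 * ζ⁻¹ := by
      have e : a1 * a2 = ζ * (a2 * a1) := by rw [hζ]; group
      rw [e, ← hZcom (a2 * a1) ζ hζZ]
      group
    have h1 : ∀ k : ℕ, a2 * a1 ^ k = a1 ^ k * a2 * (ζ⁻¹) ^ k := by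
      intro k
      induction k with
      | zero => simp
      | succ k ih =>
        rw [pow_succ, ← mul_assoc, ih]
        calc a1 ^ k * a2 * ζ⁻¹ ^ k * a1 = a1 ^ k * (a2 * a1) * ζ⁻¹ ^ k := by
              rw [mul_assoc, ← hZcom a1 _ (pow_mem (inv_mem hζZ) k)]; group
          _ = a1 ^ k * a1 * a2 * (ζ⁻¹ * ζ⁻¹ ^ k) := by rw [h21]; group
          _ = _ := by rw [← pow_succ']
    have h2 : ∀ j k : ℕ, a2 ^ j * a1 ^ k = a1 ^ k * a2 ^ j * (ζ⁻¹) ^ (j * k) := by
      intro j k
      induction j with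
      | zero => simp
      | succ j ih =>
        rw [pow_succ', mul_assoc, ih]
        calc a2 * (a1 ^ k * a2 ^ j * ζ⁻¹ ^ (j * k)) = (a2 * a1 ^ k) * a2 ^ j * ζ⁻¹ ^ (j * k) := by group
          _ = a1 ^ k * a2 * a2 ^ j * (ζ⁻¹ ^ k * ζ⁻¹ ^ (j * k)) := by
            rw [h1, mul_assoc (a1 ^ k * a2), ← hZcom (a2 ^ j) _ (pow_mem (inv_mem hζZ) k)]; group
          _ = _ := by rw [← pow_add, show k + j * k = (j + 1) * k by ring]; group
    intro j k
    simp only [pw]
    rw [h2]
    congr 1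
    have hζ3 : ζ⁻¹ = ζ ^ 2 := (eq_inv_of_mul_eq_one_left (by rw [← pow_succ]; exact hexp ζ (hZR hζZ))).symm
    rw [hζ3, ← pow_mul, pow_eq_pow_mod _ (hexp ζ (hZR hζZ))]
    congr 1
    exact val_mul_two j k
  -- the map on the radical
  let f1 : Hs →* X :=
    MonoidHom.mk' (fun a => pw a1 (a.v 0) * pw a2 (a.v 1) * pw ζ (a.v 0 * a.v 1 + a.z)) (by
      intro a b
      show pw a1 ((a.v + b.v) 0) * pw a2 ((a.v + b.v) 1) *
        pw ζ ((a.v + b.v) 0 * (a.v + b.v) 1 + (a.z + b.z - om a.v b.v)) = _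
      rw [Pi.add_apply, Pi.add_apply, pw_add a1 ha1, pw_add a2 ha2]
      have e : pw a1 (a.v 0) * pw a2 (a.v 1) * pw ζ (a.v 0 * a.v 1 + a.z) *
          (pw a1 (b.v 0) * pw a2 (b.v 1) * pw ζ (b.v 0 * b.v 1 + b.z)) =
          pw a1 (a.v 0) * pw a1 (b.v 0) * (pw a2 (a.v 1) * pw a2 (b.v 1)) *
            (pw ζ (-(a.v 1 * b.v 0)) * pw ζ (a.v 0 * a.v 1 + a.z) * pw ζ (b.v 0 * b.v 1 + b.z)) := by
        have c1 := fun (x : X) i => hZcom x _ (pwZ i)
        calc _ = pw a1 (a.v 0) * (pw a2 (a.v 1) * pw a1 (b.v 0)) * pw a2 (b.v 1) *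
              (pw ζ (a.v 0 * a.v 1 + a.z) * pw ζ (b.v 0 * b.v 1 + b.z)) := by
              rw [mul_assoc (pw a1 (a.v 0) * pw a2 (a.v 1)), ← mul_assoc (pw ζ (a.v 0 * a.v 1 + a.z)),
                ← c1 (pw a1 (b.v 0) * pw a2 (b.v 1))]
              group
          _ = _ := by
              rw [pw_swap, mul_assoc (pw a1 (a.v 0)), mul_assoc (pw a1 (b.v 0) * pw a2 (a.v 1)),
                ← c1 (pw a2 (b.v 1))]
              group
      rw [e, ← pw_add ζ (hZR hζZ), ← pw_add ζ (hZR hζZ)]
      congr 2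
      simp only [om]
      ring_nf
      rw [show (2 : ZMod 3) = -1 from rfl]
      ring)
  have f1_apply : ∀ a : Hs, f1 a = pw a1 (a.v 0) * pw a2 (a.v 1) * pw ζ (a.v 0 * a.v 1 + a.z) := fun _ => rfl
  have f1R : ∀ a, f1 a ∈ R := fun a => mul_mem (mul_mem (pw_mem a1 ha1 _) (pw_mem a2 ha2 _)) (hZR (pwZ _))
  have pwζ_inj : ∀ i, pw ζ i = 1 → i = 0 := fun i hi => by
    have := orderOf_dvd_of_pow_eq_one hi
    rw [orderOf_eq_prime (hexp ζ (hZR hζZ)) hζ1] at this
    exact (ZMod.val_eq_zero i).1 (Nat.eq_zero_of_dvd_of_lt this (ZMod.val_lt i))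
  have f1inj : Function.Injective f1 := by
    refine (injective_iff_map_eq_one _).2 fun a ha => ?_
    -- `a` commutes with both generators modulo nothing
    have hc : ∀ b : Hs, om a.v b.v = 0 := fun b => by
      have h : f1 (a * b * (b * a)⁻¹) = 1 := by
        rw [map_mul, map_inv, map_mul, map_mul, ha, one_mul, mul_one, mul_inv_cancel]
      have e : a * b * (b * a)⁻¹ = ⟨0, om a.v b.v⟩ := by
        ext <;> simp [mul_def, inv_def, om]
        · ring
        · exact comm_z _ _ _ _ _ _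
      rw [e, f1_apply] at h
      apply pwζ_inj
      simpa [pw] using h
    have h0 := hc ⟨![1, 0], 0⟩
    have h1 := hc ⟨![0, 1], 0⟩
    simp [om] at h0 h1
    rw [f1_apply, h0, h1] at ha
    simp [pw] at ha
    have hz := pwζ_inj a.z (by simpa [pw] using ha)
    ext i
    · fin_cases i <;> simp [one_def, h0, h1]
    · simp [one_def, hz]
  have f1surj : ∀ r ∈ R, ∃ a, f1 a = r := by
    have : f1.range = R := by
      refine Subgroup.eq_of_le_of_card_ge (by rintro _ ⟨a, rfl⟩; exact f1R a) ?_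
      rw [← Nat.card_congr (MonoidHom.ofInjective f1inj).toEquiv, card_Hs, hR27]
    intro r hr
    exact this.ge hr
  have f1t : ∀ a : Hs, t * f1 a * t = f1 ⟨-a.v, a.z⟩ := by
    intro a
    have hp : ∀ (b : X), b ∈ R → t * b * t = b⁻¹ → ∀ i, t * pw b i * t = pw b (-i) := by
      intro b hb hbt i
      have h1 : t * pw b i * t = (pw b i)⁻¹ := by
        simp only [pw]
        rw [← inv_pow, ← hbt, show t * b * t = t * b * t⁻¹ by rw [htinv], conj_pow, htinv]
      rw [h1]
      refine inv_eq_of_mul_eq_one_right ?_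
      rw [← pw_add b hb, add_neg_cancel]
      simp [pw]
    rw [f1_apply, f1_apply]
    calc t * (pw a1 (a.v 0) * pw a2 (a.v 1) * pw ζ (a.v 0 * a.v 1 + a.z)) * t
        = (t * pw a1 (a.v 0) * t) * (t⁻¹ * pw a2 (a.v 1) * t⁻¹) *
            (t * pw ζ (a.v 0 * a.v 1 + a.z) * t) := by group
      _ = _ := by
          rw [hp a1 ha1 ht1, htinv, hp a2 ha2 ht2', htfZ _ (pwZ _)]
          congr 2
          simp
  have f1minus : ∀ r ∈ R, t * r * t = r⁻¹ → ∃ v, f1 ⟨v, 0⟩ = r := by
    intro r hr hrt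
    obtain ⟨a, rfl⟩ := f1surj r hr
    rw [f1t, ← map_inv] at hrt
    have := congrArg Hs.z (f1inj hrt)
    simp [inv_def] at this
    exact ⟨a.v, congrArg f1 (Hs.ext rfl (eq_zero_of_eq_neg this).symm)⟩
  -- an element of order three of the centraliser of `t`, outside `R`
  obtain ⟨E, hEc, hE3, hE27⟩ := hE
  have hEcom : ∀ x ∈ E, ∀ y ∈ E, x * y = y * x := fun x hx y hy =>
    congrArg Subtype.val (hEc.is_comm.comm (⟨x, hx⟩ : E) ⟨y, hy⟩)
  obtain ⟨e, heE, heR⟩ : ∃ e ∈ E, e ∉ R := by
    by_contra hcon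
    push Not at hcon
    have : E = R := Subgroup.eq_of_le_of_card_ge hcon (by rw [hE27, hR27])
    exact hne' (hEcom a1 (this.ge ha1) a2 (this.ge ha2))
  obtain ⟨e', he'3, he't, he'R⟩ : ∃ e' : X, e' ^ 3 = 1 ∧ t * e' * t = e' ∧ e' ∉ R := by
    -- `|E ∩ R| ≥ 9`
    have hER : (E ⊓ R : Subgroup X) ≠ ⊥ ∧ 9 ≤ Nat.card (E ⊓ R : Subgroup X) := by
      have hm : Nat.card (E.map π) ∣ 27 := hE27 ▸ Subgroup.card_map_dvd E π
      have hm2 : Nat.card (E.map π) ∣ 24 := card_sl ▸ Subgroup.card_subgroup_dvd_card _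
      have hm3 : Nat.card (E.map π) ≤ 3 := Nat.le_of_dvd (by norm_num) (Nat.dvd_gcd hm hm2)
      have h := Subgroup.card_mul_index (R.subgroupOf E)
      rw [hE27, ← Subgroup.inf_subgroupOf_right R E,
        Nat.card_congr (Subgroup.subgroupOfEquivOfLe inf_le_right).toEquiv] at h
      rw [Subgroup.inf_subgroupOf_right] at h
      have hi : (R.subgroupOf E).index = Nat.card (E.map π) := by
        have : R.subgroupOf E = (π.comp E.subtype).ker := by
          ext x
          simp [Subgroup.mem_subgroupOf, MonoidHom.mem_ker, hker]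
        rw [this, Subgroup.index_ker, MonoidHom.range_comp, Subgroup.range_subtype]
      rw [hi, inf_comm] at h
      have : 9 ≤ Nat.card (E ⊓ R : Subgroup X) := by nlinarith
      refine ⟨fun h0 => ?_, this⟩
      rw [h0, Subgroup.card_bot] at this
      omega
    set A : Subgroup X := E ⊓ R with hA
    set M : Subgroup X := R ⊓ centralizer (A : Set X) with hM
    have hAM : A ≤ M := fun x hx => ⟨hx.2, Subgroup.mem_centralizer_iff.2 fun y hy => hEcom y hy.1 x hx.1⟩
    have hMA : M = A := by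
      refine (Subgroup.eq_of_le_of_card_ge hAM ?_).symm
      have h1 : Nat.card M ∣ 3 ^ 3 := by
        rw [show 3 ^ 3 = 27 from rfl, ← hR27]; exact Subgroup.card_dvd_of_le inf_le_left
      obtain ⟨k, hk, hMk⟩ := (Nat.dvd_prime_pow Nat.prime_three).1 h1
      rw [hMk]
      by_cases hk3 : k = 3
      · exfalso
        have hMR : M = R := Subgroup.eq_of_le_of_card_ge inf_le_left (by rw [hMk, hk3, hR27]; norm_num)
        have : A ≤ Z := fun a ha => hZmem a ha.2 fun r hr =>
          (Subgroup.mem_centralizer_iff.1 (hMR.ge hr).2 a ha).symm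
        have := Subgroup.card_le_of_le this
        omega
      · calc 3 ^ k ≤ 3 ^ 2 := Nat.pow_le_pow_right (by norm_num) (by omega)
          _ = 9 := rfl
          _ ≤ _ := hER.2
    have hZA : Z ≤ A := fun z hz => hMA.le
      ⟨hZR hz, Subgroup.mem_centralizer_iff.2 fun y hy => hZcom y z hz⟩
    have htA : ∀ a ∈ A, t * a * t ∈ A := by
      intro a ha
      have := mul_mem (inv_mem ha) (hZA (hinvert a ha.2))
      simpa using this
    have hdR : e⁻¹ * (t * e * t) ∈ R := (hker _).1 (by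
      rw [map_mul, map_mul, map_mul, map_inv, htπ]; simp)
    have hteE : t * e * t ∈ E := by
      have hd : e⁻¹ * (t * e * t) ∈ A := by
        refine hMA.le ⟨hdR, Subgroup.mem_centralizer_iff.2 fun a ha => ?_⟩
        have h1 : a * (t * e * t) = t * e * t * a := by
          calc a * (t * e * t) = t * ((t * a * t) * e) * t := by
                calc _ = (t * t) * a * (t * e * t) := by rw [ht2, one_mul]
                  _ = _ := by group
            _ = t * (e * (t * a * t)) * t := by rw [hEcom _ (htA a ha).1 e heE]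
            _ = t * e * t * a * (t * t) := by group
            _ = t * e * t * a := by rw [ht2, mul_one]
        have h2 : a * e⁻¹ = e⁻¹ * a := hEcom a ha.1 _ (inv_mem heE)
        rw [← mul_assoc, h2, mul_assoc, h1]; group
      have := mul_mem heE hd.1
      simpa using this
    refine ⟨(e * (t * e * t)) ^ 2, hE3 _ (pow_mem (mul_mem heE hteE) 2), ?_, ?_⟩
    · have h1 : t * (e * (t * e * t)) * t = e * (t * e * t) := by
        calc _ = t * e * t * e * (t * t) := by group
          _ = t * e * t * e := by rw [ht2, mul_one]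
          _ = _ := hEcom _ hteE e heE
      calc t * (e * (t * e * t)) ^ 2 * t
          = (t * (e * (t * e * t)) * t) * (t⁻¹ * (e * (t * e * t)) * t) := by
            rw [pow_two]; group
        _ = _ := by rw [htinv, h1, pow_two]
    · intro h
      apply heR
      have h0 := (hker _).2 h
      have hte : π (t * e * t) = π e := by rw [map_mul, map_mul, htπ]; simp
      rw [map_pow, map_mul, hte, ← pow_two, ← pow_mul, show 2 * 2 = 3 + 1 from rfl, pow_succ,
        ← map_pow, hE3 e heE, map_one, one_mul] at h0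
      exact (hker _).1 h0
  have he'π : π e' ≠ 1 := fun h => he'R ((hker _).1 h)
  -- the centraliser of `t`
  let C : Subgroup X := centralizer ({t} : Set X)
  have hC : ∀ x, x ∈ C ↔ t * x * t = x := fun x => by
    rw [Subgroup.mem_centralizer_singleton_iff]
    constructor
    · intro h; rw [← h, mul_assoc, ht2, mul_one]
    · intro h; nth_rewrite 1 [← h]; rw [mul_assoc, ht2, mul_one]
  have hCR' : ∀ x ∈ C, x ∈ R → x ∈ Z := fun x hx hxR => hfix x hxR ((hC x).1 hx)
  let πC : C →* SL₃ := π.comp C.subtype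
  have hπC : Function.Surjective πC := by
    intro A
    obtain ⟨x, rfl⟩ := hπ A
    set s := t * (x * t * x⁻¹) with hs
    have hsR : s ∈ R := (hker _).1 (by rw [hs, map_mul, map_mul, map_mul, map_inv, htπ]; simp)
    have hts : t * s * t = s⁻¹ := by
      rw [hs]
      calc t * (t * (x * t * x⁻¹)) * t = (t * t) * (x * t * x⁻¹) * t := by group
        _ = x * t⁻¹ * x⁻¹ * t⁻¹ := by rw [ht2, one_mul, htinv]
        _ = (t * (x * t * x⁻¹))⁻¹ := by group
    have hs3 : s * s = s⁻¹ := eq_inv_of_mul_eq_one_left (by rw [← pow_two, ← pow_succ]; exact hexp s hsR)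
    refine ⟨⟨s⁻¹ * x, (hC _).2 ?_⟩, ?_⟩
    · have e1 : t * x * t = s * x := by rw [hs]; group
      calc t * (s⁻¹ * x) * t = t * s⁻¹ * (t * t) * x * t := by rw [ht2]; group
        _ = (t⁻¹ * s * t⁻¹)⁻¹ * (t * x * t) := by group
        _ = s⁻¹⁻¹ * (s * x) := by rw [htinv, hts, e1]
        _ = s⁻¹ * x := by rw [inv_inv, ← mul_assoc, hs3]
    · show π (s⁻¹ * x) = π x
      rw [map_mul, map_inv, (hker s).2 hsR, inv_one, one_mul]
  let Zc : Subgroup C := Z.subgroupOf C
  have hZC : Z ≤ C := fun z hz => (hC z).2 (htfZ z hz)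
  have hZc3 : Nat.card Zc = 3 :=
    (Nat.card_congr (Subgroup.subgroupOfEquivOfLe hZC).toEquiv).trans hZ3
  have hkerC : πC.ker = Zc := by
    ext x
    rw [MonoidHom.mem_ker, Subgroup.mem_subgroupOf]
    exact ⟨fun h => hCR' x x.2 ((hker _).1 h), fun h => (hker _).2 (hZR h)⟩
  have hC72 : Nat.card C = 72 := by
    have h := Subgroup.card_mul_index πC.ker
    rw [Subgroup.index_ker, MonoidHom.range_eq_top.2 hπC, Subgroup.card_top, card_sl, hkerC, hZc3] at h
    omega
  haveI : IsMulCommutative Zc := ⟨⟨fun a b => Subtype.ext (Subtype.ext (hZcom _ _ b.2))⟩⟩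
  let ec : C := ⟨e', (hC e').2 he't⟩
  have hZcc : ∀ (x : C) (z : Zc), (z : C) * x = x * z := fun x z => Subtype.ext (hZcom _ _ z.2).symm
  let φ : Zc × zpowers ec →* C := MonoidHom.mk' (fun q => (q.1 : C) * q.2) (fun q q' => by
    show ((q.1 * q'.1 : Zc) : C) * ((q.2 * q'.2 : zpowers ec) : C) = _
    rw [Subgroup.coe_mul, Subgroup.coe_mul, mul_assoc (q.1 : C), ← mul_assoc (q'.1 : C), hZcc (q.2 : C) q'.1]
    group)
  have hec3 : orderOf ec = 3 :=
    orderOf_eq_prime (Subtype.ext he'3) (fun h => he'π (by rw [show e' = 1 from congrArg Subtype.val h, map_one]))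
  have hφinj : Function.Injective φ := by
    refine (injective_iff_map_eq_one _).2 fun q hq => ?_
    obtain ⟨⟨z, hz⟩, ⟨w, hw⟩⟩ := q
    have hzw : z * w = 1 := hq
    obtain ⟨i, rfl⟩ := Subgroup.mem_zpowers_iff.1 hw
    have h1 : πC ec ^ i = 1 := by
      have := congrArg πC hzw
      rw [map_mul, map_zpow, map_one, show πC z = 1 from (hkerC.ge hz : z ∈ πC.ker), one_mul] at this
      exact this
    have h3 : orderOf (πC ec) = 3 :=
      orderOf_eq_prime (by rw [← map_pow, show ec ^ 3 = 1 from Subtype.ext he'3, map_one]) he'π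
    have hwi : ec ^ i = 1 := by
      rw [← orderOf_dvd_iff_zpow_eq_one] at h1 ⊢
      rw [hec3]; rwa [h3] at h1
    rw [hwi, mul_one] at hzw
    exact Prod.ext (Subtype.ext hzw) (Subtype.ext hwi)
  let P : Subgroup C := φ.range
  have hP9 : Nat.card P = 9 := by
    rw [← Nat.card_congr (MonoidHom.ofInjective hφinj).toEquiv, Nat.card_prod, hZc3, Nat.card_zpowers, hec3]
  have hPi : P.index = 8 := by
    have h := Subgroup.card_mul_index P
    rw [hP9, hC72] at h
    omega
  let ψ : P →* Zc := (MonoidHom.fst _ _).comp (MonoidHom.ofInjective hφinj).symm.toMonoidHom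
  letI : CommGroup Zc := { (inferInstance : Group Zc) with mul_comm := fun a b => mul_comm' a b }
  let τ : C →* Zc := MonoidHom.transfer ψ
  let K : Subgroup C := τ.ker
  have hτZ : ∀ z : Zc, τ (z : C) = z ^ 8 := by
    intro z
    have hzP : ∀ n : ℕ, φ (z ^ n, 1) = (z : C) ^ n := fun n => by
      show ((z ^ n : Zc) : C) * ((1 : zpowers ec) : C) = _
      rw [OneMemClass.coe_one, mul_one, SubmonoidClass.coe_pow]
    rw [MonoidHom.transfer_eq_pow ψ (z : C) (fun k g _ => by
      rw [← SubmonoidClass.coe_pow, mul_assoc, hZcc, inv_mul_cancel_left])]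
    show ((MonoidHom.ofInjective hφinj).symm ⟨(z : C) ^ P.index, _⟩).1 = _
    have : (MonoidHom.ofInjective hφinj).symm ⟨(z : C) ^ P.index,
        MonoidHom.transfer_eq_pow_aux (z : C) (fun k g _ => by
          rw [← SubmonoidClass.coe_pow, mul_assoc, hZcc, inv_mul_cancel_left])⟩ = (z ^ 8, 1) := by
      rw [MulEquiv.symm_apply_eq]
      apply Subtype.ext
      show (z : C) ^ P.index = φ (z ^ 8, 1)
      rw [hzP, hPi]
    rw [this]
  have hKZ : ∀ x : C, x ∈ K → (x : X) ∈ R → x = 1 := by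
    intro x hx hxR
    have h8 := (hτZ ⟨x, hCR' x x.2 hxR⟩).symm.trans hx
    have h3 : (⟨x, hCR' x x.2 hxR⟩ : Zc) ^ 3 = 1 := Subtype.ext (Subtype.ext (hexp _ hxR))
    rw [show 8 = 3 * 2 + 2 from rfl, pow_add, pow_mul, h3, one_pow, one_mul] at h8
    exact congrArg Subtype.val (eq_one_of_sq_cube h8 h3)
  have hK24 : 24 ≤ Nat.card K := by
    have h := Subgroup.card_mul_index K
    have h3 : K.index ≤ 3 := by
      rw [Subgroup.index_ker, ← hZc3]; exact Subgroup.card_le_card_group _
    rw [hC72] at h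
    nlinarith
  -- the action of `K` on the radical
  have hcol : ∀ (k : C) (b : X), b ∈ R → t * b * t = b⁻¹ →
      ∃ v, f1 ⟨v, 0⟩ = (k : X) * b * (k : X)⁻¹ := by
    intro k b hb hbt
    refine f1minus _ ((inferInstance : R.Normal).conj_mem b hb k) ?_
    have hk := (hC k).1 k.2
    calc t * (k * b * (k : X)⁻¹) * t = (t * k * t) * (t⁻¹ * b * t⁻¹) * (t⁻¹ * k * t⁻¹)⁻¹ := by group
      _ = (k * b * (k : X)⁻¹)⁻¹ := by rw [htinv, hk, hbt]; group
  choose c1 hc1 using fun k : C => hcol k a1 ha1 ht1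
  choose c2 hc2 using fun k : C => hcol k a2 ha2 ht2'
  have hpow : ∀ (v : Fin 2 → ZMod 3) (n : ℕ), (⟨v, 0⟩ : Hs) ^ n = ⟨(n : ZMod 3) • v, 0⟩ := by
    intro v n
    induction n with
    | zero => simp [one_def]
    | succ n ih =>
      rw [pow_succ, ih, mul_def]
      ext <;> simp [om, add_mul]
      ring
  have hf1ζ : ∀ i, f1 ⟨0, i⟩ = pw ζ i := fun i => by rw [f1_apply]; simp [pw]
  have f1a : ∀ i j : ZMod 3, f1 ⟨![i, 0], 0⟩ = pw a1 i ∧ f1 ⟨![0, j], 0⟩ = pw a2 j := fun i j => by
    constructor <;> rw [f1_apply] <;> simp [pw]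
  have hdet : ∀ k : C, om (c1 k) (c2 k) = 1 := by
    intro k
    have h : f1 ((⟨c1 k, 0⟩ : Hs) * ⟨c2 k, 0⟩ * ⟨c1 k, 0⟩⁻¹ * ⟨c2 k, 0⟩⁻¹) = f1 ⟨0, 1⟩ := by
      rw [map_mul, map_mul, map_mul, map_inv, map_inv, hc1, hc2, hf1ζ]
      calc _ = (k : X) * ζ * (k : X)⁻¹ := by rw [hζ]; group
        _ = ζ := hZX k ζ hζZ
        _ = _ := by simp [pw, ZMod.val_one]
    have := congrArg Hs.z (f1inj h)
    simp [mul_def, inv_def, om] at this
    rw [om]
    linear_combination this + (c1 k 0 * c2 k 1 - c2 k 0 * c1 k 1) * three_eq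
  let M : C → SL₃ := fun k => ⟨!![c1 k 0, c2 k 0; c1 k 1, c2 k 1], by
    rw [Matrix.det_fin_two]; simpa [om] using hdet k⟩
  have hconj : ∀ (k : C) (a : Hs), (k : X) * f1 a * (k : X)⁻¹ = f1 ⟨mv (M k) a.v, a.z⟩ := by
    intro k a
    have hz : ∀ i, (k : X) * pw ζ i * (k : X)⁻¹ = f1 ⟨0, i⟩ := fun i => by rw [hf1ζ, hZX _ _ (pwZ i)]
    have h1 : (k : X) * pw a1 (a.v 0) * (k : X)⁻¹ = f1 ⟨a.v 0 • c1 k, 0⟩ := by
      simp only [pw]
      rw [← conj_pow, ← hc1, ← map_pow, hpow, ZMod.natCast_zmod_val]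
    have h2 : (k : X) * pw a2 (a.v 1) * (k : X)⁻¹ = f1 ⟨a.v 1 • c2 k, 0⟩ := by
      simp only [pw]
      rw [← conj_pow, ← hc2, ← map_pow, hpow, ZMod.natCast_zmod_val]
    calc (k : X) * f1 a * (k : X)⁻¹ = ((k : X) * pw a1 (a.v 0) * (k : X)⁻¹) *
          ((k : X) * pw a2 (a.v 1) * (k : X)⁻¹) *
          ((k : X) * pw ζ (a.v 0 * a.v 1 + a.z) * (k : X)⁻¹) := by rw [f1_apply]; group
      _ = _ := by
        rw [h1, h2, hz, ← map_mul, ← map_mul]
        congr 1
        have hd := hdet k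
        simp only [om] at hd
        ext i
        · fin_cases i <;> simp [mul_def, M, mv, Matrix.mulVec, dotProduct, Fin.sum_univ_two] <;> ring
        · simp [mul_def, om]
          linear_combination (-(a.v 0 * a.v 1)) * hd
  have hMa : ∀ (k : C) (v : Fin 2 → ZMod 3), f1 ⟨mv (M k) v, 0⟩ = (k : X) * f1 ⟨v, 0⟩ * (k : X)⁻¹ :=
    fun k v => (hconj k ⟨v, 0⟩).symm
  let ρ : K →* SL₃ := MonoidHom.mk' (fun k => M k) (fun k k' => by
    have h : ∀ v, mv (M ((k * k' : K) : C)) v = mv (M k * M k') v := fun v => by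
      have e : f1 ⟨mv (M ((k * k' : K) : C)) v, 0⟩ = f1 ⟨mv (M k * M k') v, 0⟩ := by
        rw [mv_mul, hMa, hMa, hMa, Subgroup.coe_mul, Subgroup.coe_mul]; group
      exact congrArg Hs.v (f1inj e)
    exact Subtype.ext (Matrix.ext_iff_mulVec.2 h))
  have hρinj : Function.Injective ρ := by
    refine (injective_iff_map_eq_one _).2 fun k hk => ?_
    have hk' : M k = 1 := hk
    apply Subtype.ext
    refine hKZ k k.2 (hZR (hCR _ fun r hr => ?_))
    obtain ⟨a, rfl⟩ := f1surj r hr
    have := hconj k a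
    rw [hk', mv_one] at this
    exact (mul_inv_eq_iff_eq_mul.1 this).symm
  have hρbij : Function.Bijective ρ := by
    refine (Nat.bijective_iff_injective_and_card _).2 ⟨hρinj, ?_⟩
    have := Nat.card_le_card_of_injective ρ hρinj
    rw [card_sl] at this ⊢
    omega
  let σ : SL₃ →* X := (C.subtype.comp K.subtype).comp (MulEquiv.ofBijective ρ hρbij).symm.toMonoidHom
  have hσ : ∀ A, ∃ k : K, M k = A ∧ σ A = ((k : C) : X) := fun A =>
    ⟨(MulEquiv.ofBijective ρ hρbij).symm A, (MulEquiv.ofBijective ρ hρbij).apply_symm_apply A, rfl⟩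
  let Φ : J →* X := SemidirectProduct.lift f1 σ fun A => MonoidHom.ext fun a => by
    rw [MonoidHom.comp_apply, MonoidHom.comp_apply]
    obtain ⟨k, hk, hs⟩ := hσ A
    refine Eq.trans ?_ (MulAut.conj_apply _ _).symm
    rw [hs, hconj, hk]
    exact congrArg f1 (act_apply A a)
  have hX : Nat.card X = 648 := by
    have h := Subgroup.card_mul_index R
    have hi : R.index = 24 := by
      rw [show R = π.ker from Subgroup.ext fun x => (hker x).symm, Subgroup.index_ker,
        MonoidHom.range_eq_top.2 hπ, Subgroup.card_top, card_sl]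
    rw [hR27, hi] at h
    omega
  refine ⟨MulEquiv.ofBijective Φ ((Nat.bijective_iff_injective_and_card _).2 ⟨?_, by rw [card_J, hX]⟩)⟩
  refine (injective_iff_map_eq_one _).2 fun j hj => ?_
  obtain ⟨k, hk, hs⟩ := hσ j.right
  have hj' : f1 j.left * ((k : C) : X) = 1 := by rw [← hs]; exact hj
  have hkR : ((k : C) : X) ∈ R := by
    rw [eq_inv_of_mul_eq_one_right hj']; exact inv_mem (f1R _)
  have hk1 : k = 1 := Subtype.ext (hKZ k k.2 hkR)
  rw [hk1] at hk
  rw [hk1, OneMemClass.coe_one, OneMemClass.coe_one, mul_one] at hj'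
  refine SemidirectProduct.ext (f1inj (hj'.trans f1.map_one.symm)) ?_
  rw [← hk]
  exact ρ.map_one

end Cfsg.Agent.ThreeJacobi
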