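import Cfsg.Agent.Lib.ThreeJacobi.Basic
import Cfsg.Agent.Lib.Fusion.PSpTwoBlocks
import Cfsg.Agent.Lib.Forms.SpOrder

/-!
# The model group as a centraliser in `PSp₄(3)`
-/

set_option autoImplicit false
set_option maxHeartbeats 1000000

namespace Cfsg.Agent.ThreeJacobi

open Matrix Cfsg.Agent.FormsLib Cfsg.Agent.AutPSp

universe u

variable {F : Type u} [Field F] [CharP F 3]

local notation "V" => Fin 2 ⊕ Fin 2 → F
local notation "Sp" => Matrix.symplecticGroup (Fin 2) F
local notation "Mat" => Matrix (Fin 2 ⊕ Fin 2) (Fin 2 ⊕ Fin 2) F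
local notation "B" => spB 2 F
local notation "ι" => ZMod.castHom (dvd_refl 3) F

/-- The fixed point. -/
def xv : V := Pi.single (.inl 0) 1

/-- The embedding of the plane. -/
def av (v : Fin 2 → ZMod 3) : V := Sum.elim ![0, ι (v 0)] ![0, ι (v 1)]

omit [CharP F 3] in
theorem xv_ne : (xv : V) ≠ 0 := by simp [xv]

theorem B_xv_av (v : Fin 2 → ZMod 3) : B xv (av v) = 0 := by
  rw [spB_expand]; simp [xv, av, Fin.sum_univ_two]

theorem B_av (v w : Fin 2 → ZMod 3) : B (av (F := F) w) (av v) = ι (om v w) := by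
  rw [spB_expand]; simp [av, Fin.sum_univ_two, om]; ring

/-- The unipotent radical. -/
noncomputable def radHom : Hs →* Sp where
  toFun a := qE xv (av a.v) (B_xv_av _) (-ι a.z)
  map_one' := by
    rw [← qE_zero (xv : V)]
    refine qE_congr ?_ (by simp [one_def])
    funext i; rcases i with i | i <;> fin_cases i <;> simp [av, one_def]
  map_mul' a b := by
    rw [qE_mul]
    refine qE_congr ?_ ?_
    · funext i; rcases i with i | i <;> fin_cases i <;> simp [av, mul_def]
    · rw [B_av]; simp only [mul_def, map_sub, map_add]; ring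

/-- The map of `SL₂` of the prime field. -/
noncomputable def slMap : Matrix.SpecialLinearGroup (Fin 2) (ZMod 3) →* Sp where
  toFun A := Fusion.PSpTwoSimple.dg 1 (SpecialLinearGroup.map ι A)
  map_one' := by rw [map_one]; exact Fusion.PSpTwoSimple.dg_one
  map_mul' A C := by
    rw [Fusion.PSpTwoSimple.dg_mul, map_mul, one_mul]

theorem slMap_xv (A : Matrix.SpecialLinearGroup (Fin 2) (ZMod 3)) :
    ((slMap (F := F) A : Sp) : Mat) *ᵥ xv = xv := by
  show (Fusion.PSpTwoSimple.dg 1 (SpecialLinearGroup.map ι A) : Sp).1 *ᵥ xv = xv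
  rw [Fusion.PSpTwoSimple.dg_coe]
  funext i
  rcases i with i | i <;> fin_cases i <;>
    simp [xv, Fusion.PSpTwoSimple.blk, Fusion.PSpTwoSimple.pl, Fusion.PSpTwoSimple.co,
      Matrix.one_apply]

theorem slMap_av (A : Matrix.SpecialLinearGroup (Fin 2) (ZMod 3)) (v : Fin 2 → ZMod 3) :
    ((slMap (F := F) A : Sp) : Mat) *ᵥ av v = av (mv A v) := by
  show (Fusion.PSpTwoSimple.dg 1 (SpecialLinearGroup.map ι A) : Sp).1 *ᵥ av v = _
  rw [Fusion.PSpTwoSimple.dg_coe]
  funext i
  rcases i with i | i <;> fin_cases i <;>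
    simp [av, mv, Fusion.PSpTwoSimple.blk, Fusion.PSpTwoSimple.pl, Fusion.PSpTwoSimple.co,
      Matrix.mulVec, dotProduct, Fintype.sum_sum_type, Fin.sum_univ_two]

omit [CharP F 3] in
theorem qE_congr3 {x y a b : V} {t : F} {h : B x a = 0} {h' : B y b = 0} (e : x = y) (e' : a = b) :
    qE x a h t = qE y b h' t := by subst e e'; rfl

theorem radHom_apply (a : Hs) : radHom (F := F) a = qE xv (av a.v) (B_xv_av _) (-ι a.z) := rfl

theorem radHom_act (A : Matrix.SpecialLinearGroup (Fin 2) (ZMod 3)) (a : Hs) :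
    radHom (F := F) (act A a) = slMap A * radHom a * (slMap A)⁻¹ := by
  rw [radHom_apply a, qE_conj, act_apply, radHom_apply]
  exact qE_congr3 (slMap_xv A).symm (slMap_av A a.v).symm

/-- The model group in `Sp₄`. -/
noncomputable def toSp : J →* Sp :=
  SemidirectProduct.lift radHom slMap fun A => MonoidHom.ext fun a => by
    rw [MonoidHom.comp_apply, MonoidHom.comp_apply]
    exact (radHom_act A a).trans (MulAut.conj_apply _ _).symm

theorem toSp_apply (j : J) : toSp (F := F) j = radHom j.left * slMap j.right := rfl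

theorem toSp_xv (j : J) : ((toSp (F := F) j : Sp) : Mat) *ᵥ xv = xv := by
  rw [toSp_apply, Submonoid.coe_mul, ← Matrix.mulVec_mulVec, slMap_xv]
  show (qE xv (av j.left.v) (B_xv_av _) _ : Sp).1 *ᵥ xv = xv
  rw [qE_apply, B_self, B_xv_av]
  simp

theorem toSp_injective : Function.Injective (toSp (F := F)) := by
  refine (injective_iff_map_eq_one _).2 fun j hj => ?_
  have hι : Function.Injective (ι) := (ι).injective
  have hw : ∀ i, ((toSp (F := F) j : Sp) : Mat) *ᵥ Pi.single i 1 = Pi.single i 1 := fun i => by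
    rw [hj, OneMemClass.coe_one, Matrix.one_mulVec]
  have h := hw (.inr 0)
  rw [toSp_apply, Submonoid.coe_mul, ← Matrix.mulVec_mulVec] at h
  have hs : ((slMap (F := F) j.right : Sp) : Mat) *ᵥ Pi.single (.inr 0) 1 = Pi.single (.inr 0) 1 := by
    show (Fusion.PSpTwoSimple.dg 1 (SpecialLinearGroup.map ι j.right) : Sp).1 *ᵥ _ = _
    rw [Fusion.PSpTwoSimple.dg_coe]
    funext i
    rcases i with i | i <;> fin_cases i <;>
      simp [Fusion.PSpTwoSimple.blk, Fusion.PSpTwoSimple.pl, Fusion.PSpTwoSimple.co,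
        Matrix.one_apply]
  rw [hs] at h
  change (qE xv (av j.left.v) (B_xv_av _) (-ι j.left.z) : Sp).1 *ᵥ _ = _ at h
  rw [qE_apply] at h
  have h1 := congrFun h (.inl 1)
  have h2 := congrFun h (.inr 1)
  have h3 := congrFun h (.inl 0)
  simp [av, xv, spB_expand, Fin.sum_univ_two] at h1 h2 h3
  have hl : j.left = 1 := by
    refine Hs.ext ?_ (hι (by simpa [one_def] using h3))
    funext i
    fin_cases i
    · exact hι (by simpa [one_def] using h1)
    · exact hι (by simpa [one_def] using h2)
  refine SemidirectProduct.ext hl (Subtype.ext (Matrix.ext fun a b => hι ?_))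
  rw [toSp_apply, hl, map_one, one_mul] at hj
  have h4 := (Fusion.PSpTwoSimple.dg_inj (hj.trans Fusion.PSpTwoSimple.dg_one.symm)).2
  have h5 := congrFun (congrFun (congrArg Subtype.val h4) a) b
  rw [SemidirectProduct.one_right]
  simpa [Matrix.one_apply, apply_ite (ι)] using h5

theorem card_range_toSp : Nat.card (toSp (F := F)).range = 648 :=
  (Nat.card_congr (MonoidHom.ofInjective (f := toSp (F := F)) toSp_injective).toEquiv).symm.trans card_J

variable [Fintype F]

theorem exists_centralizer_equiv (hF : Fintype.card F = 3) :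
    ∃ (c : Cfsg.PSp 2 F) (S : Sylow 3 (Cfsg.PSp 2 F)), orderOf c = 3 ∧ c ∈ (S : Subgroup (Cfsg.PSp 2 F)) ∧
      c ∈ Subgroup.centralizer ((S : Subgroup (Cfsg.PSp 2 F)) : Set (Cfsg.PSp 2 F)) ∧
      Nonempty (J ≃* Subgroup.centralizer ({c} : Set (Cfsg.PSp 2 F))) := by
  classical
  haveI : Fact (Nat.Prime 3) := ⟨Nat.prime_three⟩
  set π := proj 2 F
  set τ : Sp := tr xv 1
  have hτ3 : τ ^ 3 = 1 := tr_pow_char 3 _ _
  have hneg : (-1 : F) ≠ 1 := fun e => by
    have h2 : ((2 : ℕ) : F) = 0 := by push_cast; linear_combination -e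
    have := (CharP.cast_eq_zero_iff F 3 2).1 h2
    norm_num at this
  -- only the identity fixes `xv` and is central
  have hcen : ∀ g : Sp, (g : Mat) *ᵥ xv = xv → π g = 1 → g = 1 := fun g hg hπ => by
    rw [← map_one π, proj_eq_iff, mul_one] at hπ
    rcases hπ with e | e
    · exact inv_eq_one.1 (Subtype.ext e)
    · exfalso
      have h1 := sp_coe_inv_mulVec g xv
      rw [hg, e, Matrix.neg_mulVec, Matrix.one_mulVec] at h1
      have := congrFun h1 (.inl 0)
      simp [xv] at this
      exact hneg this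
  have hcomm : ∀ j, Commute (π τ) (π (toSp j)) := fun j => by
    refine Commute.map ?_ π
    have h := tr_conj (toSp (F := F) j) xv (1 : F)
    rw [toSp_xv] at h
    exact (mul_inv_eq_iff_eq_mul.1 h).symm
  obtain ⟨P, hP⟩ := exists_sylow_fix (m := 2) (F := F) 3 xv_ne
  refine ⟨π τ, P.mapSurjective (proj_surjective (m := 2) (F := F)), ?_, ?_, ?_, ?_⟩
  · refine orderOf_eq_prime (by rw [← map_pow, hτ3, map_one]) fun h => ?_
    exact tr_ne_one xv_ne one_ne_zero (hcen τ (by simp [τ, tr_apply, B_self]) h)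
  · show π τ ∈ (P : Subgroup Sp).map π
    exact ⟨τ, qSub_le_sylow 3 P hP ⟨0, map_zero _, 1, rfl⟩, rfl⟩
  · show π τ ∈ Subgroup.centralizer (((P : Subgroup Sp).map π : Subgroup _) : Set (Cfsg.PSp 2 F))
    rw [Subgroup.mem_centralizer_iff]
    rintro _ ⟨g, hg, rfl⟩
    refine (Commute.map ?_ π).eq
    have h := tr_conj g xv (1 : F)
    rw [hP g hg] at h
    exact mul_inv_eq_iff_eq_mul.1 h
  · let f : J →* Subgroup.centralizer ({π τ} : Set (Cfsg.PSp 2 F)) :=
      (π.comp toSp).codRestrict _ fun j => Subgroup.mem_centralizer_singleton_iff.2 (hcomm j).eq.symm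
    have hfi : Function.Injective f := by
      refine (injective_iff_map_eq_one _).2 fun j hj => toSp_injective (F := F) ?_
      rw [map_one]
      exact hcen _ (toSp_xv j) (congrArg Subtype.val hj)
    refine ⟨MulEquiv.ofBijective f ⟨hfi, ?_⟩⟩
    -- the stabiliser of `xv` in `Sp` is the image of `toSp`
    letI : MulAction Sp V :=
      { smul := fun g v => (g : Mat) *ᵥ v
        one_smul := Matrix.one_mulVec
        mul_smul := fun g h v => by
          show ((g * h : Sp) : Mat) *ᵥ v = _
          rw [Submonoid.coe_mul, ← Matrix.mulVec_mulVec]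
          rfl }
    have horb : MulAction.orbit Sp (xv : V) = {v | v ≠ 0} := by
      ext v
      constructor
      · rintro ⟨g, rfl⟩ h
        exact xv_ne (sp_mulVec_injective g (a₁ := xv) (a₂ := 0) (h.trans (Matrix.mulVec_zero _).symm))
      · intro hv
        obtain ⟨g, hg⟩ := exists_map_vector (m := 2) (F := F) xv_ne hv
        exact ⟨g, hg⟩
    have horbc : (MulAction.stabilizer Sp (xv : V)).index = 80 := by
      rw [MulAction.index_stabilizer, horb, show {v : V | v ≠ 0} = ({0} : Set V)ᶜ from rfl,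
        Set.ncard_compl, Set.ncard_singleton, Nat.card_eq_fintype_card, Fintype.card_fun, hF]
      rfl
    have hstab : Nat.card (MulAction.stabilizer Sp (xv : V)) = 648 := by
      have h := Subgroup.card_mul_index (MulAction.stabilizer Sp (xv : V))
      rw [horbc, card_symplecticGroup, hF] at h
      revert h
      generalize Nat.card (MulAction.stabilizer Sp (xv : V)) = n
      intro h
      simp only [Finset.prod_range_succ, Finset.prod_range_zero] at h
      norm_num at h
      omega
    have hrange : (toSp (F := F)).range = MulAction.stabilizer Sp (xv : V) := by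
      refine Subgroup.eq_of_le_of_card_ge ?_ ?_
      · rintro _ ⟨j, rfl⟩
        exact toSp_xv j
      · rw [hstab, card_range_toSp]
    rintro ⟨y, hy⟩
    obtain ⟨g, rfl⟩ := proj_surjective (m := 2) (F := F) y
    rw [Subgroup.mem_centralizer_singleton_iff] at hy
    have h1 : π (g * τ * g⁻¹) = π τ := by rw [map_mul, map_mul, map_inv, mul_inv_eq_iff_eq_mul]; exact hy
    have h2 : g * τ * g⁻¹ = τ :=
      eq_of_proj_eq 3 (k := 1) (l := 1) (by rw [pow_one, conj_pow, hτ3, mul_one, mul_inv_cancel])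
        (by rw [pow_one, hτ3]) h1
    rw [tr_conj] at h2
    obtain ⟨a, ha⟩ := tr_eq_tr xv_ne one_ne_zero h2.symm
    have ha2 : a * a = 1 := by
      rw [ha, tr_smul] at h2
      obtain ⟨w, hw⟩ := exists_not_orth (xv_ne (F := F))
      have h3 := congrArg (fun s : Sp => (s : Mat) *ᵥ w) h2
      simp only [τ, tr_apply, hw, mul_one, one_smul, add_right_inj] at h3
      have h4 := congrFun h3 (.inl 0)
      simpa [xv] using h4
    obtain ⟨g', hg', hπ⟩ : ∃ g' : Sp, (g' : Mat) *ᵥ xv = xv ∧ π g' = π g := by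
      rcases mul_self_eq_one_iff.1 ha2 with rfl | rfl
      · exact ⟨g, by rw [ha, one_smul], rfl⟩
      · refine ⟨g * Fusion.PSpTwoSimple.cs F, ?_, ?_⟩
        · rw [Submonoid.coe_mul, ← Matrix.mulVec_mulVec]
          have : ((Fusion.PSpTwoSimple.cs F : Sp) : Mat) = -1 := by
            rw [Fusion.PSpTwoSimple.cs, Fusion.PSpTwoSimple.dg_neg_coe, Fusion.PSpTwoSimple.dg_one,
              OneMemClass.coe_one]
          rw [this, Matrix.neg_mulVec, Matrix.one_mulVec, Matrix.mulVec_neg, ha, neg_one_smul, neg_neg]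
        · rw [proj_eq_iff]
          right
          rw [_root_.mul_inv_rev, mul_assoc, inv_mul_cancel, mul_one, Fusion.PSpTwoSimple.cs,
            Fusion.PSpTwoSimple.dg_inv, inv_neg, inv_one, Fusion.PSpTwoSimple.dg_neg_coe,
            Fusion.PSpTwoSimple.dg_one, OneMemClass.coe_one]
    have : g' ∈ (toSp (F := F)).range := hrange.ge hg'
    obtain ⟨j, rfl⟩ := this
    exact ⟨j, Subtype.ext hπ⟩

end Cfsg.Agent.ThreeJacobi
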